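import Cfsg.Agent.LAY.Defs
import Cfsg.Agent.H26.CoInv3
import Cfsg.Agent.H97.Co1Set
import Cfsg.Agent.H8.LargeX
import Cfsg.Agent.H15.CenCo5
import Cfsg.Prelude.Def_Classification2

/-! Layers of the involution centralisers of `Co1`. -/

set_option autoImplicit false

namespace Cfsg.Agent.LAY

open Cfsg Subgroup

namespace Co1

open H15 H97 H26.CoInv Polynomial MulAction Matrix
open scoped Pointwise

theorem no_fix {y : Co0} (hy : orderOf y = 13) {v : leechLattice} (h : y • v = v) : v = 0 := by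
  have := finite_Co0
  have h13 : y ^ 13 = 1 := hy ▸ pow_orderOf_eq_one y
  have k : ∀ w : leechLattice, y • w = w → 13 ∣ Nat.card (stabilizer Co0 w) := fun w e =>
    hy ▸ Subgroup.orderOf_dvd_natCard _ e
  induction hn : (sqNorm (v : Vec)).toNat using Nat.strong_induction_on generalizing v with
  | _ n ih =>
  obtain ⟨s, z, rfl, hs⟩ := exists_short' v
  rw [co0_smul_add, co0_smul_add] at h
  have hc : ((y • s : leechLattice) : leechLattice ⧸ twoL) = s :=
    H15.mk_eq_iff'.2 ⟨z - y • z, by rw [eq_sub_of_add_eq h]; abel⟩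
  have k2 : ∀ N, N ≠ 0 → N < 64 → sqNorm (s : Vec) = N → ∃ w : leechLattice, sqNorm (w : Vec) = N ∧ y • w = w :=
    fun N h0 h1 h2 => by
      obtain ⟨a, ha, e⟩ := exists_fixed (p := 13) (by norm_num) h13
        (S := {x : leechLattice | sqNorm (x : Vec) = N ∧ (x : leechLattice ⧸ twoL) = s})
        (fun a ha => ⟨(co0_norm y a).trans ha.1, (mk_smul_eq y ha.2).trans hc⟩) fun e => by
          have := Nat.le_of_dvd ((Set.ncard_pos ((finite_norm N).subset fun _ h => h.1)).2 ⟨s, by exact ⟨h2, rfl⟩⟩) e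
          have := fiber_le_two h0 h1 s h2
          omega
      exact ⟨a, ha.1, e⟩
  rcases hs with rfl | hs | hs | hs
  · by_cases z0 : z = 0
    · simp [z0]
    rw [co0_smul_zero, zero_add, zero_add, ← two_nsmul, ← two_nsmul] at h
    have e : sqNorm ((0 + (z + z) : leechLattice) : Vec) = 4 * sqNorm (z : Vec) := by
      rw [zero_add, ← two_zsmul, AddSubgroup.coe_zsmul, sqNorm_smul]; rfl
    have := min_norm z.2 fun e => z0 (Subtype.ext e)
    exact absurd (ih _ (by omega) (nsmul_right_injective two_ne_zero h) rfl) z0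
  · obtain ⟨w, a, b⟩ := k2 32 (by decide) (by decide) hs
    exact absurd (card_stab32 w a ▸ k w b) (by norm_num)
  · obtain ⟨w, a, b⟩ := k2 48 (by decide) (by decide) hs
    exact absurd (card_stab48 w a ▸ k w b) (by norm_num)
  · obtain ⟨w, ⟨a, b⟩, -⟩ := exists_fixed_rep64 (p := 13) (by norm_num) (by norm_num) h13 hs hc
    have h1 := (stabilizer Co0 w).card_mul_index
    have h2 := k w b
    rw [index_stab64 w a, card_Co0] at h1
    omega

def red (v : leechLattice) : GolayPt → ℚ := fun i => ((v : Vec) i : ℚ)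

noncomputable def mat (g : Co0) : Matrix GolayPt GolayPt ℚ :=
  fun j i => (((g • e8 i : leechLattice) : Vec) j : ℚ) / 8

theorem mat_red (g : Co0) (v : leechLattice) : mat g *ᵥ red v = red (g • v) := by
  funext j
  have h := congrArg (Int.cast : ℤ → ℚ) (eight_mul_smul_apply g v j)
  push_cast at h
  change ∑ i, ((((g • e8 i : leechLattice) : Vec) j : ℚ) / 8) * ((v : Vec) i : ℚ) =
    (((g • v : leechLattice) : Vec) j : ℚ)
  rw [← mul_right_inj' (by norm_num : (8 : ℚ) ≠ 0), h, Finset.mul_sum]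
  exact Finset.sum_congr rfl fun i _ => by ring

theorem ext_red {A B : Matrix GolayPt GolayPt ℚ} (h : ∀ v, A *ᵥ red v = B *ᵥ red v) : A = B := by
  ext j i
  have e : red (e8 i) = Pi.single i 8 := funext fun j => by
    by_cases hj : j = i <;> simp [red, e8_val, hj]
  simpa [e] using congrFun (h (e8 i)) j

/-- the rational representation of degree 24 -/
noncomputable def rho : Co0 →* Matrix GolayPt GolayPt ℚ where
  toFun := mat
  map_one' := ext_red fun v => by rw [mat_red, one_smul, one_mulVec]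
  map_mul' g h := ext_red fun v => by rw [← mulVec_mulVec, mat_red, mat_red, mat_red, mul_smul]

theorem rho_inj {g : Co0} (h : rho g = 1) : g = 1 := co0_ext fun v => Subtype.ext (funext fun i => by
  have := congrFun (mat_red g v) i
  rw [show mat g = 1 from h, one_mulVec] at this
  rw [one_smul]
  exact Int.cast_injective this.symm)

theorem sum_eq {y : Co0} (hy : orderOf y = 13) : ∑ i ∈ Finset.range 13, rho y ^ i = 0 := ext_red fun v => by
  have h13 : y ^ 13 = 1 := hy ▸ pow_orderOf_eq_one y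
  have h1 : ∑ i ∈ Finset.range 13, y ^ i • v = 0 := no_fix hy (by
    rw [co0_smul_sum, ← add_left_inj (y ^ 0 • v)]
    simp only [← mul_smul, ← pow_succ']
    rw [← Finset.sum_range_succ' (fun i => y ^ i • v), Finset.sum_range_succ, h13, pow_zero])
  rw [sum_mulVec, zero_mulVec]
  simp only [← map_pow]
  simp only [show ∀ g, rho g = mat g from fun _ => rfl, mat_red]
  funext j
  have := congrArg (fun v : leechLattice => ((v : Vec) j : ℚ)) h1
  simpa [red] using this

theorem key0 {n : Type*} [Fintype n] [DecidableEq n] (hn : Fintype.card n = 24) {U : Matrix n n ℚ} {r : ℕ}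
    (hr : r.Prime) (h5 : 5 ≤ r) (h13 : r ≠ 13) (h1 : U ^ (r * 13) = 1)
    (h2 : ∑ i ∈ Finset.range 13, (U ^ r) ^ i = 0) : U ^ 13 = 1 := by
  have := Fact.mk hr
  have hd : ¬ 13 ∣ r := fun e => h13 ((Nat.prime_dvd_prime_iff_eq (by norm_num) hr).1 e).symm
  have p1 : (X ^ r - 1) * (cyclotomic (r * 13) ℚ * (X ^ 13 - 1)) = (X - 1) * (X ^ (r * 13) - 1) := by
    have a := cyclotomic_prime_mul_X_sub_one ℚ r
    have b := congrArg (expand ℚ 13) a
    rw [map_mul, cyclotomic_expand_eq_cyclotomic_mul (by norm_num) hd] at b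
    simp only [map_sub, map_pow, expand_X, map_one, ← pow_mul] at b
    rw [← a, mul_comm r 13, ← b, mul_comm 13 r]
    ring
  have p2 := congrArg (aeval U) p1
  rw [map_mul, map_mul _ (X - 1)] at p2
  generalize hf : aeval U (cyclotomic (r * 13) ℚ * (X ^ 13 - 1)) = f at p2
  simp only [map_sub, map_pow, aeval_X, map_one] at p2
  rw [h1, sub_self, mul_zero, sub_mul, one_mul, sub_eq_zero] at p2
  have p3 : ∀ i, (U ^ r) ^ i * f = f := fun i => by
    induction i with
    | zero => rw [pow_zero, one_mul]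
    | succ i ih => rw [pow_succ, mul_assoc, p2, ih]
  have p4 := congrArg (· * f) h2
  simp only [Finset.sum_mul, p3, Finset.sum_const, Finset.card_range, zero_mul] at p4
  rw [← Nat.cast_smul_eq_nsmul ℚ] at p4
  obtain rfl : f = 0 := (smul_eq_zero.1 p4).resolve_left (by norm_num)
  obtain ⟨a, b, e⟩ : IsCoprime (cyclotomic (r * 13) ℚ) U.charpoly :=
    (cyclotomic.irreducible_rat (by omega)).coprime_iff_not_dvd.2 fun e => by
      have := natDegree_le_of_dvd e (charpoly_monic _).ne_zero
      rw [natDegree_cyclotomic, charpoly_natDegree_eq_dim, hn,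
        Nat.totient_mul ((Nat.coprime_primes hr (by norm_num)).2 h13), Nat.totient_prime hr,
        Nat.totient_prime (by norm_num)] at this
      omega
  have p5 := congrArg (fun q => aeval U (q * (X ^ 13 - 1))) e
  simp only [add_mul, mul_assoc, map_add, map_mul _ a, map_mul _ b, hf, map_mul _ U.charpoly,
    aeval_self_charpoly, zero_mul, mul_zero, add_zero, one_mul, map_sub, map_pow, aeval_X, map_one] at p5
  exact sub_eq_zero.1 p5.symm

theorem key {u : Co0} {r : ℕ} (hr : r.Prime) (h5 : 5 ≤ r) (h13 : r ≠ 13) (h1 : u ^ (r * 13) = 1)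
    (h2 : orderOf (u ^ r) = 13) : u ^ 13 = 1 :=
  rho_inj ((map_pow rho u 13).trans (key0 card_pt hr h5 h13 (by rw [← map_pow, h1, map_one])
    (by rw [← map_pow]; exact sum_eq h2)))

theorem cen13 {y : Co0} (hy : orderOf y = 13) {k : Spor.Co1} (hc : Commute (prC y) k) (hr : (orderOf k).Prime)
    (h5 : 5 ≤ orderOf k) : orderOf k = 13 := by_contra fun h13 => by
  have h0 : y ^ 13 = 1 := hy ▸ pow_orderOf_eq_one y
  obtain ⟨k, rfl⟩ := QuotientGroup.mk'_surjective _ k
  generalize e : orderOf (QuotientGroup.mk' (center Co0) k) = r at *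
  have c : Commute k y := comm_of_co1 (by decide) h0 hc.symm
  have e1 : (k ^ 2) ^ r = 1 := by
    rw [← pow_mul, mul_comm, pow_mul, pow_two]
    rcases co1_eq_iff.1 (show ((1 : Co0) : Spor.Co1) = (k ^ r : Co0) from
      ((map_pow prC k r).trans (e ▸ pow_orderOf_eq_one _)).symm) with a | a <;> rw [a]
    exacts [one_mul _, by rw [mul_one, negC_sq]]
  have c2 := c.pow_left 2
  have co : (13 : ℕ).Coprime r := (Nat.coprime_primes (by norm_num) hr).2 (Ne.symm h13)
  have e2 := key (u := k ^ 2 * y) hr h5 h13 (by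
    rw [c2.mul_pow, pow_mul, e1, mul_comm r, pow_mul, h0, one_pow, one_pow, one_mul]) (by
    rw [c2.mul_pow, e1, one_mul, Nat.Coprime.orderOf_pow (hy ▸ co), hy])
  rw [c2.mul_pow, h0, mul_one, ← pow_mul] at e2
  have e3 : r ∣ 2 * 13 := e ▸ orderOf_dvd_of_pow_eq_one (by rw [← map_pow, e2, map_one])
  have := Nat.le_of_dvd two_pos (co.symm.dvd_of_dvd_mul_right e3)
  omega

theorem not_ab {Z : Subgroup Spor.Co1} (h1 : Nat.card Z = 5 ^ 4) (h2 : Z ≤ centralizer Z) : False := by
  have := finite_Co0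
  have := Fact.mk Nat.prime_five
  obtain ⟨b, hb, -, φ, -, hφ⟩ := cenCo5
  have b5 : permC b ^ 5 = 1 := permC_pow (hb ▸ pow_orderOf_eq_one b)
  obtain ⟨Q, hQ⟩ := (IsPGroup.of_card (p := 5) (G := Z) h1).exists_le_sylow
  have hZ : Z = Q := eq_of_le_of_card_ge hQ (by
    obtain ⟨i, hi⟩ := Q.isPGroup'.exists_card_eq
    have := card_subgroup_dvd_card (Q : Subgroup Spor.Co1)
    rw [hi, card_Co1] at this
    rw [hi, h1]
    by_contra! e
    exact absurd ((pow_dvd_pow 5 ((Nat.pow_lt_pow_iff_right (by decide)).1 e : 4 < i)).trans this) (by norm_num))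
  obtain ⟨P, hP⟩ : ∃ P : Sylow 5 Spor.Co1, zpowers (prC (permC b)) ≤ P := IsPGroup.exists_le_sylow (by
    rintro ⟨_, i, rfl⟩
    exact ⟨1, Subtype.ext (show (prC (permC b) ^ i) ^ 5 ^ 1 = 1 by
      rw [pow_one, ← zpow_natCast, ← _root_.zpow_mul, mul_comm, _root_.zpow_mul, zpow_natCast, ← map_pow, b5, map_one,
        _root_.one_zpow])⟩)
  obtain ⟨c, rfl⟩ := exists_smul_eq Spor.Co1 Q P
  obtain ⟨x, hx, ex⟩ := hP (mem_zpowers _)
  have a1 : ((c • Q : Sylow 5 Spor.Co1) : Subgroup Spor.Co1) ≤ (centralizer {permC b}).map prC := by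
    rintro _ ⟨w, hw, rfl⟩
    obtain ⟨k, hk⟩ := QuotientGroup.mk'_surjective _ (MulAut.conj c w)
    refine ⟨k, mem_centralizer_singleton_iff.2 (comm_of_co1 (by decide) b5 ?_), hk⟩
    change prC k * prC (permC b) = prC (permC b) * prC k
    rw [show prC k = _ from hk, ← ex]
    exact (Commute.map (h2 (hZ.ge hx) w (hZ.ge hw)) (MulAut.conj c))
  have a2 := (card_dvd_of_le a1).trans (card_map_dvd _ _)
  have a3 : pmCyc b ≤ zpowers (permC b * negC) := by
    have c : Commute (permC b) negC := negC_comm _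
    have e : (permC b * negC) ^ 5 = negC := by rw [c.mul_pow, b5, one_mul, negC_pow_odd (by decide)]
    have m : negC ∈ zpowers (permC b * negC) := by simpa only [e] using npow_mem_zpowers (permC b * negC) 5
    refine sup_le (zpowers_le.2 ?_) (zpowers_le.2 m)
    simpa only [mul_assoc, negC_sq, mul_one] using mul_mem (mem_zpowers (permC b * negC)) m
  have a4 : Nat.card φ.ker ∣ 10 := by
    rw [show φ.ker = (pmCyc b).subgroupOf _ from Subgroup.ext hφ]
    refine (card_comap_dvd_of_injective _ _ (subtype_injective _)).trans ((card_dvd_of_le a3).trans ?_)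
    rw [Nat.card_zpowers]
    refine orderOf_dvd_of_pow_eq_one ?_
    rw [Commute.mul_pow (negC_comm _), show 10 = 5 * 2 from rfl, pow_mul, b5, mul_comm 5, pow_mul, pow_two negC,
      negC_sq, one_pow, one_pow, one_mul]
  have a5 : φ.ker.index ∣ Nat.factorial 10 := by
    rw [index_ker]
    exact (card_subgroup_dvd_card _).trans ((card_subgroup_dvd_card _).trans (by rw [Nat.card_perm]; simp))
  rw [← φ.ker.card_mul_index, Sylow.coe_subgroup_smul, ← Nat.card_congr (equivSMul _ _).toEquiv, ← hZ, h1] at a2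
  exact absurd (a2.trans (mul_dvd_mul a4 a5)) (by decide)

theorem w_B {g y : Co0} (hy : orderOf y = 13) (hc : y * g = g * y) :
    W 1 (centralizer {prC g} : Subgroup Spor.Co1) := by
  have := finite_Co0
  have o : orderOf (prC y) = 13 := by
    have := Fact.mk (show Nat.Prime 13 by norm_num)
    refine orderOf_eq_prime (by rw [← map_pow, ← hy, pow_orderOf_eq_one, map_one]) fun e => ?_
    have := Subgroup.orderOf_dvd_natCard _ ((QuotientGroup.eq_one_iff y).1 e)
    rw [hy, card_center] at this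
    omega
  have hd := card_subgroup_dvd_card (centralizer {prC g} : Subgroup Spor.Co1)
  rw [card_Co1] at hd
  let t : (centralizer {prC g} : Subgroup Spor.Co1) := ⟨prC y, mem_centralizer_singleton_iff.2 (congrArg prC hc)⟩
  have ot : orderOf t = 13 := (orderOf_coe t).symm.trans o
  refine w_of_big (by norm_num) ot (fun e => absurd (e.trans hd) (by norm_num)) fun r hr h5 h13 R a1 a2 =>
    by_contra fun e => ?_
  have := Fact.mk hr
  have b1 : IsPGroup r ↥(R ⊓ centralizer R) := a1.to_inf_left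
  obtain ⟨i, hi⟩ := b1.exists_card_eq
  have b2 : i ≠ 0 := by
    rintro rfl
    have : Nontrivial R := (nontrivial_iff_ne_bot R).2 e
    have := a1.center_nontrivial
    obtain ⟨z, hz⟩ := exists_ne (1 : center R)
    exact hz (Subtype.ext (Subtype.ext (mem_bot.1 ((card_eq_one.1 hi).le
      ⟨z.1.2, fun x hx => congrArg Subtype.val (mem_center_iff.1 z.2 ⟨x, hx⟩)⟩))))
  have b3 : t ∈ normalizer ((R ⊓ centralizer R : Subgroup _) : Set _) := mem_normalizer_fintype fun x hx =>
    ⟨(mem_normalizer_iff.1 a2 x).1 hx.1, fun w hw => by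
      have := hx.2 _ ((mem_normalizer_iff.1 (inv_mem a2) w).1 hw)
      rw [← mul_right_inj t⁻¹, ← mul_left_inj t]
      simpa only [mul_assoc, inv_inv, inv_mul_cancel_left, inv_mul_cancel, mul_one] using this⟩
  obtain ⟨x, -, c1, c2⟩ := exists_fix (by norm_num) ot hr b1 b3 fun d => by
    have c0 : r ^ i ∣ 2 ^ 21 * 3 ^ 9 * 5 ^ 4 * 7 ^ 2 * 11 * 13 * 23 := hi ▸ (card_subgroup_dvd_card _).trans hd
    have c1 := (dvd_pow_self r b2).trans c0
    have k : ∀ {p : ℕ} {n : ℕ}, p.Prime → r ∣ p ^ n → r = p := fun hp a =>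
      (Nat.prime_dvd_prime_iff_eq hr hp).1 (hr.dvd_of_dvd_pow a)
    have c2 : r = 5 ∨ r = 7 ∨ r = 11 ∨ r = 23 := by
      simp only [hr.dvd_mul, or_assoc] at c1
      rcases c1 with a | a | a | a | a | a | a
      · have := k Nat.prime_two a; omega
      · have := k Nat.prime_three a; omega
      · exact .inl (k (by norm_num) a)
      · exact .inr (.inl (k (by norm_num) a))
      · exact .inr (.inr (.inl (k (n := 1) (by norm_num) a)))
      · exact absurd (k (n := 1) (by norm_num) a) h13
      · exact .inr (.inr (.inr (k (n := 1) (by norm_num) a)))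
    have c3 : i < 5 := by
      by_contra! e
      have := (pow_dvd_pow r e).trans c0
      rcases c2 with rfl | rfl | rfl | rfl <;> exact absurd this (by norm_num)
    rw [hi] at d
    have c4 : r = 5 ∧ i = 4 := by
      rcases c2 with rfl | rfl | rfl | rfl <;> interval_cases i <;> omega
    obtain ⟨rfl, rfl⟩ := c4
    refine not_ab ((card_map_of_injective (subtype_injective _)).trans hi) ?_
    rintro _ ⟨a, ha, rfl⟩ _ ⟨b, hb, rfl⟩
    exact congrArg Subtype.val (ha.2 b hb.1)
  rw [← orderOf_coe] at c2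
  exact h13 (c2 ▸ cen13 hy (congrArg Subtype.val c1) (c2 ▸ hr) (c2 ▸ h5))

theorem charP_mono : H72.CharPIn 2 (monoN.map prC) := by
  have := finite_Co0
  have h1 : signG.map prC ≤ pCoreOf 2 (monoN.map prC) := H72.le_pCoreOf
    ((IsPGroup.of_card (n := 12) card_signG).map _) (map_mono signG_le) (by
      rintro _ ⟨k, hk, rfl⟩
      refine mem_normalizer_fintype ?_
      rintro _ ⟨g, hg, rfl⟩
      exact ⟨_, conj_mem_signG hk hg, rfl⟩)
  rintro _ ⟨⟨_, ⟨σ, s, hs, rfl⟩, rfl⟩, h⟩
  obtain rfl : σ = 1 := Subtype.ext (Equiv.ext fun i => by_contra fun e => by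
    obtain ⟨r, hr, a⟩ := (by decide +kernel : ∀ i j : GolayPt, j ≠ i → ∃ r ∈ H14.rows,
      r.testBit (H14.idx i) ≠ r.testBit (H14.idx j)) i _ e
    have ho := H14.rows_octads r hr
    have hc : IsCw (H14.bits r) := ho.1
    have b := h _ (h1 ⟨_, signC_mem_signG _ hc, rfl⟩)
    rw [map_mul, ← mul_assoc, ← map_mul, signG_comm (signC_mem_signG _ _) (signC_mem_signG _ _), map_mul, mul_assoc,
      mul_assoc, mul_right_inj, ← eq_mul_inv_iff_mul_eq, ← map_inv, ← map_mul, ← map_mul, permC_conj_signC] at b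
    rcases co1_eq_iff.1 b with b | b
    · have := mem_perm_smul σ (H14.bits r) (σ.1 i)
      rw [signC_inj b, Equiv.symm_apply_apply, H14.mem_bits, H14.mem_bits] at this
      exact a (Bool.eq_iff_iff.2 this.symm)
    · rw [← negC_comm, ← signC_compl] at b
      have := congrArg Finset.card (signC_inj b)
      rw [Finset.card_smul_finset, Finset.card_compl, card_pt, H14.octad_card ho] at this
      omega)
  rw [permC_one, mul_one]
  exact h1 ⟨_, signC_mem_signG _ _, rfl⟩

theorem lay : Lay 1 Spor.Co1 := fun t ht => by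
  have := finite_Co0
  have hk : ∀ k, prC k = 1 ↔ k ∈ center Co0 := fun k => QuotientGroup.eq_one_iff k
  obtain ⟨k, rfl⟩ : ∃ k, prC k = t := QuotientGroup.mk'_surjective _ t
  rcases mem_center_iff'.1 ((hk (k * k)).1 (by rw [map_mul, ← pow_two, ← ht, pow_orderOf_eq_one])) with e | e
  · obtain ⟨c, hc, h2⟩ := isConj_signC e
    have h3 := prC.map_isConj h2
    obtain ⟨o, ho, h8⟩ := exists_octad
    obtain ⟨d, hd, h12⟩ := exists_dodecad
    obtain ⟨σ, h4 | h4⟩ := sign_cases hk ho h8 hd h12 hc fun e => by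
      rw [e, isConj_one_left] at h3
      simp [h3] at ht
    · obtain ⟨τ, -, h5⟩ := exists_conj_tt ho h8
      refine W.conj (.inl (bot_of_charP (p := 2) ?_))
        ((isConj_iff.2 ⟨_, h5⟩).trans (h3.trans (isConj_iff.2 ⟨_, h4⟩)).symm)
      have h6 : QQ1 ≤ pCoreOf 2 (centralizer {prC tt}) := H72.le_pCoreOf (H8.lx_isPGroup QQ1_ex) QQ1_le fun g hg =>
        mem_normalizer_fintype (QQ1_lx.norm g (mem_centralizer_singleton_iff.1 hg))
      exact fun g hg => h6 (QQ1_large g fun a ha => (hg.2 a (h6 ha)).symm)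
    · refine W.conj (w_of_le charP_mono (by rw [← map_mul, signC_sq, map_one]) fun g hg => ?_)
        (h3.trans (isConj_iff.2 ⟨_, h4⟩)).symm
      obtain ⟨g, rfl⟩ : ∃ k, prC k = g := QuotientGroup.mk'_surjective _ g
      refine mem_map_of_mem _ ?_
      rcases map_eq hk (u := signC d hd * g) (v := g * signC d hd) (mem_centralizer_singleton_iff.1 hg).symm with a | a
      · exact mem_monoN_of_conj hd h12 hd h12 a.symm
      · rw [mul_assoc, ← signC_compl] at a
        exact mem_monoN_of_conj hd h12 hd.compl (by rw [Finset.card_compl, h12, card_pt]) a.symm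
  · obtain ⟨g, y, hg, hy, hc⟩ := exists_thirteen
    exact (w_B hy hc).conj (prC.map_isConj ((isConj_std hg).2.trans (isConj_std e).2.symm))

end Co1

theorem lay_Co1 {G : Type*} [Group G] [Finite G] (h : Spor.IsoCo1 G) : Lay 1 G := by
  obtain ⟨e⟩ := h
  exact Co1.lay.congr e

end Cfsg.Agent.LAY
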