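import Cfsg.Agent.LAY.Defs
import Cfsg.Agent.INVK.SpCo2
import Cfsg.Agent.H26.CoInv
import Cfsg.Agent.H26.CoInv2
import Cfsg.Agent.H15.Maximal
import Cfsg.Prelude.Def_Classification2

/-! The involution centralisers of `Co2` have characteristic two. -/

set_option autoImplicit false

namespace Cfsg.Agent.LAY

open Cfsg Subgroup

namespace Co2

open MulAction H97 H15 CO2 INVK.C2
open scoped Pointwise

/-- every pattern on at most seven points is cut out by a codeword -/
theorem pattern {S : Finset GolayPt} (hS : S.card < 8) (e : Finset GolayPt) :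
    ∃ c, IsCw c ∧ ∀ i ∈ S, (i ∈ c ↔ i ∈ e) := by
  by_contra H
  let K : Submodule (ZMod 2) (GolayPt → ZMod 2) :=
    golayCode ⊔ LinearMap.ker (LinearMap.funLeft (ZMod 2) (ZMod 2) (Subtype.val : S → GolayPt))
  have hK : ind e ∉ K := fun h => by
    obtain ⟨w, hw, z, hz, e1⟩ := Submodule.mem_sup.1 h
    refine H ⟨_, isCw_support₂ hw, fun i hi => ?_⟩
    have h1 : z i = 0 := congrFun hz ⟨i, hi⟩
    have h2 : w i + z i = ind e i := congrFun e1 i
    rw [mem_support₂, ← add_zero (w i), ← h1, h2, ind]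
    simp
  obtain ⟨φ, h1, h2⟩ := K.exists_dual_map_eq_bot_of_notMem hK inferInstance
  have h3 : ∀ w ∈ K, φ w = 0 := fun w hw => (Submodule.eq_bot_iff _).1 h2 _ ⟨w, hw, rfl⟩
  let T := Finset.univ.filter fun i => φ (Pi.single i 1) = 1
  have h4 : ∀ d, φ (ind d) = ((d ∩ T).card : ZMod 2) := fun d => by
    rw [show ind d = ∑ i ∈ d, Pi.single i 1 from funext fun j => by simp [ind, Finset.sum_apply, Pi.single_apply],
      map_sum, ← Finset.filter_mem_eq_inter, Finset.card_filter, Nat.cast_sum]
    refine Finset.sum_congr rfl fun i _ => ?_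
    rcases H15.zmod2_cases (φ (Pi.single i 1)) with k | k <;> simp [T, k]
  have h5 : IsCw T := isCw_of_even fun d hd => ZMod.natCast_eq_zero_iff_even.1
    ((h4 d).symm.trans (h3 _ (Submodule.mem_sup_left ((isCw_iff d).1 hd))))
  have h6 : T ⊆ S := fun i hi => by_contra fun k => by
    have := h3 (Pi.single i 1) (Submodule.mem_sup_right (funext fun j =>
      Pi.single_eq_of_ne (fun e : j.1 = i => k (e ▸ j.2)) _))
    rw [(Finset.mem_filter.1 hi).2] at this
    exact one_ne_zero this
  have h7 := Finset.card_le_card h6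
  have h8 := h5.card_cases
  exact h1 (by rw [h4, Finset.card_eq_zero.1 (show T.card = 0 by omega)]; simp)

theorem sc_oct {u : leechLattice} {O : Finset GolayPt} (hO : IsCw O) (hX : O ⊆ XX) (hu : (u : Vec) = vTwo O) :
    SC u := by
  have sg : ∀ c hc, (∀ i ∈ c, i ∉ O) → signC c hc • u = u := fun c hc a => (signC_fix_iff hc u).2 fun x hx => by
    rw [hu, vTwo, if_neg (a x hx)]
  have pm : ∀ τ : M24, τ.1 • O = O → permC τ • u = u := fun τ a => Subtype.ext (funext fun x => by
    rw [permC_apply, hu, vTwo, vTwo]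
    exact if_congr (by rw [← mem_perm_smul, a]) rfl rfl)
  have ds : ∀ {c : Finset GolayPt}, symmDiff c XX ≠ c := fun e =>
    absurd (symmDiff_eq_left.1 e) (by decide +kernel)
  rintro _ ⟨d, hd, τ, h1, h2, rfl⟩ h
  have h3 : τ.1 • O = O := by
    have := h _ (signC_mem_QQ (hO.symmDiff XX_cw) (symmDiff_sub hX le_rfl)) (sg _ _ fun i hi k => by
      simp [Finset.mem_symmDiff, k, hX k] at hi)
    rw [← mul_assoc, signG_comm (signC_mem_signG _ _) (signC_mem_signG _ hd), mul_assoc, mul_assoc,
      mul_right_inj, eq_comm, ← mul_inv_eq_iff_eq_mul, permC_conj_signC] at this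
    refine ((T6_spec h2).2.2.1 O hO hX).resolve_right fun k => ds (c := O) ?_
    rw [← signC_inj this, ← k, smul_smul, (T6_spec h2).2.1, one_smul]
  have h4 : ∀ σ ∈ T6, σ • O = O → σ • d = d := fun σ s1 s2 => by
    have := h _ (permC_mem_QQ (σ := ⟨σ, T6_le s1⟩) s1) (pm _ s2)
    rw [← one_mul (permC ⟨σ, _⟩), ← signC_empty, mono_mul, mono_mul] at this
    refine Finset.ext fun i => ?_
    simpa [Finset.mem_symmDiff, mem_perm_smul] using Finset.ext_iff.1 (mono_inj this).2 i
  have h5 : (∀ σ ∈ T6, σ • d = d) ∨ ∀ σ ∈ T6, σ • symmDiff d O = symmDiff d O := by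
    refine or_iff_not_imp_left.2 fun k σ s1 => ?_
    push Not at k
    obtain ⟨ρ, r1, r2⟩ := k
    have e : σ • symmDiff d O = symmDiff (σ • d) (σ • O) := Finset.ext fun i => by
      simp only [mem_perm_smul, Finset.mem_symmDiff]
    have r3 := ((T6_spec r1).2.2.1 O hO hX).resolve_left fun k => r2 (h4 ρ r1 k)
    rcases (T6_spec s1).2.2.1 O hO hX with k | k
    · rw [e, k, h4 σ s1 k]
    have := h4 _ (mul_mem (inv_mem r1) s1) (by rw [mul_smul, k, ← r3, inv_smul_smul])
    rw [mul_smul, inv_smul_eq_iff, ((T6_spec r1).2.2.1 d hd h1).resolve_left r2] at this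
    rw [e, k, this, symmDiff_symmDiff_symmDiff_comm, symmDiff_self, symmDiff_bot]
  have h6 : (∀ i ∈ d, i ∉ O) ∨ ∀ i ∈ symmDiff XX d, i ∉ O := by
    rcases h5 with k | k
    · rcases T6_move hd h1 k with rfl | rfl
      · exact .inl (by simp)
      · exact .inr (by simp)
    rcases T6_move (hd.symmDiff hO) (symmDiff_sub h1 hX) k with k | k
    · obtain rfl := symmDiff_eq_bot.1 k
      exact .inr fun i hi k => by simp [Finset.mem_symmDiff, k, hX k] at hi
    · exact .inl fun i hi e => by simpa [Finset.mem_symmDiff, hi, e] using k.ge (hX e)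
  refine h6.imp (fun k => ?_) fun k => ?_
  · rw [mul_smul, pm _ h3, sg _ _ k]
  · rw [← mul_assoc, signC_mul, mul_smul, pm _ h3, sg _ _ k]

theorem exists_sc {u : leechLattice} (hu : sqNorm (u : Vec) = 32) (h0 : ∀ i ∉ XX, (u : Vec) i = 0) :
    ∃ c hc, SC (signC c hc • u) := by
  have pos : ∀ S : Finset GolayPt, S.card < 8 → ∃ c hc, ∀ i ∈ S,
      ((signC c hc • u : leechLattice) : Vec) i = |(u : Vec) i| := fun S hS => by
    obtain ⟨c, hc, k⟩ := pattern hS (Finset.univ.filter fun i => (u : Vec) i < 0)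
    refine ⟨c, hc, fun i hi => ?_⟩
    rw [signC_apply]
    split_ifs with e
    · exact (abs_of_neg (by simpa using (k i hi).1 e)).symm
    · exact (abs_of_nonneg (by simpa using mt (k i hi).2 e)).symm
  have mem : ∀ i, |(u : Vec) i| ≠ 0 → i ∈ XX := fun i hi => by_contra fun e => hi (by rw [h0 i e, abs_zero])
  rcases shape32 u.2 hu with s | s | s
  · obtain ⟨p, q, n, hp, hq⟩ := pick2 s.2.2.2.2.1.ge
    obtain ⟨c, hc, k⟩ := pos {p, q} (Finset.card_le_two.trans_lt (by decide))
    refine ⟨c, hc, sc_pair (mem p (by omega)) (mem q (by omega)) fun x => ?_⟩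
    rw [eq_of_dot (x := (signC c hc • u : leechLattice)) (y := w4 p q 1 rfl) (by rw [co0_norm, hu, sqNorm_w4 n _ rfl]) (by
      rw [dot_w4, k p (by simp), k q (by simp), hp, hq, sqNorm_w4 n _ rfl]; rfl), w4_apply]
    by_cases e : x = p <;> by_cases f : x = q <;> simp_all
  · have ab : ∀ i, |(u : Vec) i| = 0 ∨ |(u : Vec) i| = 2 := fun i => by
      have := s.abs_cases (by omega) i
      omega
    let O := Finset.univ.filter fun i => |(u : Vec) i| = 2
    have mO : ∀ i, i ∈ O ↔ |(u : Vec) i| = 2 := fun i => by simp [O]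
    have hO : IsCw O := by
      convert isCw_mod4 u.2 2 using 1
      refine Finset.filter_congr fun i _ => ?_
      have := ab i
      rw [abs_eq_zero, abs_eq (by decide)] at this
      rw [abs_eq (by decide)]
      omega
    have c8 : O.card = 8 := s.2.2.1
    obtain ⟨r, hr⟩ := Finset.card_pos.1 (show 0 < O.card by omega)
    obtain ⟨c, hc, k⟩ := pos (O.erase r) (by rw [Finset.card_erase_of_mem hr]; omega)
    refine ⟨c, hc, sc_oct hO (fun i hi => mem i (by rw [(mO i).1 hi]; decide)) (sub_eq_zero.1 (by_contra fun n => ?_))⟩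
    have m := min_norm (sub_mem (signC c hc • u).2 (vTwo_mem hO)) n
    have v : ∀ i, |((signC c hc • u : leechLattice) : Vec) i| = |(u : Vec) i| := fun i => by
      rw [signC_apply]; split_ifs <;> simp
    rw [show ((signC c hc • u : leechLattice) : Vec) - vTwo O =
      Pi.single r (((signC c hc • u : leechLattice) : Vec) r - 2) from funext fun i => by
        by_cases e : i = r
        · simp [e, vTwo, hr]
        rw [Pi.single_eq_of_ne e, Pi.sub_apply, vTwo]
        split_ifs with f
        · rw [k i (Finset.mem_erase.2 ⟨e, f⟩), (mO i).1 f, sub_self]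
        · exact sub_eq_zero.2 (abs_eq_zero.1 ((v i).trans ((ab i).resolve_right (mt (mO i).2 f)))),
      sqNorm_single] at m
    rcases (abs_eq (by decide)).1 ((v r).trans ((mO r).1 hr)) with e | e <;> rw [e] at m <;> omega
  · have := s.abs_cases (by omega) none
    rw [h0 none (by decide +kernel)] at this
    simp at this

theorem charP_twelve (s : X2) (g : Co0) {d : Finset GolayPt} (hd : IsCw d) (h : d.card = 12)
    (hs : g * s * g⁻¹ = signC d hd) : H72.CharPIn 2 (centralizer {s}) := by
  have := finite_Co0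
  let f : X2 →* Co0 := (MulAut.conj g).toMonoidHom.comp (stabilizer Co0 uP).subtype
  have fi : Function.Injective f := (MulAut.conj g).injective.comp (subtype_injective _)
  have fs : f s = signC d hd := hs
  have h1 : ∀ x ∈ centralizer {s}, f x ∈ monoN := fun x hx => H26.CoInv.mem_monoN_of_conj hd h hd h (by
    rw [← fs, ← map_mul, ← map_mul, mem_centralizer_singleton_iff.1 hx])
  have h2 : signG.comap f ≤ pCoreOf 2 (centralizer {s}) := H72.le_pCoreOf
    ((IsPGroup.of_card (n := 12) card_signG).comap_of_injective f fi)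
    (fun y hy => mem_centralizer_singleton_iff.2 (fi (by
      rw [map_mul, map_mul, fs]; exact signG_comm hy (signC_mem_signG _ _))))
    fun y hy => mem_normalizer_iff.2 fun q => ⟨fun hq => by
      simpa only [mem_comap, map_mul, map_inv] using conj_mem_signG (h1 y hy) hq, fun hq => by
      simpa [mul_assoc] using conj_mem_signG (inv_mem (h1 y hy)) hq⟩
  have hu : sqNorm ((g • uP : leechLattice) : Vec) = 32 := (co0_norm _ _).trans sqNorm_uP
  have h4 := H26.CoInv.four_dvd hd h hu ((signC_fix_iff hd _).1 (by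
    rw [← hs, mul_smul, inv_smul_smul, mul_smul, s.2]))
  let S := Finset.univ.filter fun i => |((g • uP : leechLattice) : Vec) i| = 4
  have mS : ∀ i ∉ S, ((g • uP : leechLattice) : Vec) i = 0 := fun i hi => by
    have a1 := abs_le_of_sqNorm_lt (b := 5) (by decide) (hu.trans_lt (by decide)) i
    have a2 := h4 i
    simp only [S, Finset.mem_filter, Finset.mem_univ, true_and, abs_eq (show (0 : ℤ) ≤ 4 by decide)] at hi
    rw [abs_le] at a1
    omega
  have cS : S.card ≤ 2 := by
    rcases shape32 (g • uP).2 hu with k | k | k <;> exact k.2.2.2.2.1.le.trans (by decide)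
  refine H72.charPIn_of_forall fun x hx hc ho => ?_
  obtain ⟨σ, e, he, k⟩ := h1 x hx
  have h5 : σ.1.support ⊆ S := fun a ha => by_contra fun n => by
    obtain ⟨c, hc', k2⟩ := pattern (S := insert a (insert (σ.1 a) S))
      (((Finset.card_insert_le _ _).trans (Nat.succ_le_succ (Finset.card_insert_le _ _))).trans_lt (by omega)) {a}
    let y : X2 := ⟨g⁻¹ * signC c hc' * g, by
      rw [mem_stabilizer_iff, mul_smul, mul_smul, (signC_fix_iff hc' _).2 fun i hi => mS i fun j =>
        n (Finset.mem_singleton.1 ((k2 i (by simp [j])).1 hi) ▸ j), inv_smul_smul]⟩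
    have e2 : f y = signC c hc' := by
      change g * (g⁻¹ * signC c hc' * g) * g⁻¹ = _
      group
    have e3 := congrArg f (hc y (h2 (show f y ∈ signG from e2 ▸ signC_mem_signG _ _)))
    rw [map_mul, map_mul, e2, k, ← mul_assoc, signG_comm (signC_mem_signG _ _) (signC_mem_signG _ he), mul_assoc,
      mul_assoc, mul_right_inj, eq_comm, ← mul_inv_eq_iff_eq_mul, permC_conj_signC] at e3
    have e4 : σ.1 a ∈ c := by
      rw [← signC_inj e3, mem_perm_smul, Equiv.symm_apply_apply]; exact (k2 a (by simp)).2 (by simp)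
    exact Equiv.Perm.mem_support.1 ha (Finset.mem_singleton.1 ((k2 _ (by simp)).1 e4))
  have h6 : σ * σ = 1 := Subtype.ext (by
    rcases ((Finset.card_le_card h5).trans cS).eq_or_lt with a | a
    · obtain ⟨i, j, -, a⟩ := Equiv.Perm.card_support_eq_two.1 a
      rw [coe_mul, a, Equiv.swap_mul_self, coe_one]
    · rw [coe_mul, (Equiv.Perm.card_support_le_one (f := σ.1)).1 (by omega), one_mul, coe_one])
  have h7 : f (x * x) ∈ signG := by
    rw [map_mul, k, mono_mul, h6, permC_one, mul_one]; exact signC_mem_signG _ _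
  refine orderOf_eq_one_iff.1 ((ho.pow_right 2).eq_one_of_dvd (orderOf_dvd_of_pow_eq_one (fi ?_)))
  rw [map_one, ← signG_sq h7, ← map_mul]
  exact congrArg f (by simp only [pow_succ, pow_zero, one_mul, mul_assoc, show 2 ^ 2 = 4 from rfl])

theorem charP (t : X2) (ht : orderOf t = 2) : H72.CharPIn 2 (centralizer {t}) := by
  have t2 : (t : Co0) * t = 1 := by rw [← coe_mul, ← pow_two, ← ht, pow_orderOf_eq_one, coe_one]
  obtain ⟨c, hc, k⟩ := H26.CoInv.isConj_signC t2
  obtain ⟨g, k⟩ := isConj_iff.1 k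
  have k' : (t : Co0) = g⁻¹ * signC c hc * g := by rw [← k]; group
  rcases hc.card_cases with h | h | h | h | h
  · obtain rfl := Finset.card_eq_zero.1 h
    rw [show t = 1 from Subtype.ext (by rw [k', signC_empty]; simp), orderOf_one] at ht
    omega
  · obtain ⟨σ, e, -⟩ := exists_conj_tt hc h
    have e1 : (t : Co0) = negC * (g⁻¹ * permC σ * tt * (g⁻¹ * permC σ)⁻¹) := by
      have : permC σ * (negC * tt) * (permC σ)⁻¹ = signC c hc := by
        rw [negC, signC_mul, permC_conj_signC]
        exact signC_congr (by rw [← e]; ext i; simp only [mem_perm_smul, Finset.mem_symmDiff, Finset.mem_compl]; simp)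
      rw [k', ← this, ← mul_assoc (permC σ), negC_comm, ← mul_assoc, ← mul_assoc, ← mul_assoc, negC_comm]
      group
    obtain ⟨d, hd, sc⟩ := exists_sc (u := (g⁻¹ * permC σ)⁻¹ • uP) ((co0_norm _ _).trans sqNorm_uP) fun i hi => by
      have a : ((t : Co0) • uP) = uP := t.2
      rw [e1, mul_smul, negC_smul, neg_eq_iff_eq_neg, mul_smul, mul_smul, smul_eq_iff_eq_inv_smul,
        co0_smul_neg] at a
      have := signC_apply XX XX_cw ((g⁻¹ * permC σ)⁻¹ • uP) i
      rw [a, if_neg hi, AddSubgroup.coe_neg, Pi.neg_apply] at this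
      omega
    refine charP_of t (g⁻¹ * permC σ * (signC d hd)⁻¹) (.inr ?_) (by rwa [mul_inv_rev, inv_inv, mul_smul])
    rw [e1, mul_assoc _ (signC d hd)⁻¹ tt, signG_comm (inv_mem (signC_mem_signG d hd)) (signC_mem_signG _ _)]
    group
  · exact charP_twelve t g hc h k
  · obtain ⟨σ, e, -⟩ := exists_conj_tt hc.compl (by rw [Finset.card_compl, h, card_pt])
    have e1 : (t : Co0) = g⁻¹ * permC σ * tt * (g⁻¹ * permC σ)⁻¹ := by
      have : permC σ * tt * (permC σ)⁻¹ = signC c hc := by
        rw [permC_conj_signC]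
        refine signC_congr (Finset.ext fun i => ?_)
        simpa only [mem_perm_smul, Finset.mem_compl, not_iff_not] using Finset.ext_iff.1 e i
      rw [k', ← this]
      group
    refine charP_of t _ (.inl e1) (sc_fix ?_)
    have a : ((t : Co0) • uP) = uP := t.2
    rwa [e1, mul_smul, mul_smul, smul_eq_iff_eq_inv_smul] at a
  · obtain rfl := (Finset.card_eq_iff_eq_univ c).1 (h.trans card_pt.symm)
    refine absurd t.2 ?_
    rw [k', show signC _ hc = negC from rfl, negC_comm, inv_mul_cancel_right]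
    simpa using neg_not_mem (g := 1)

end Co2

theorem lay_Co2 {G : Type*} [Group G] [Finite G] (h : Spor.IsoCo2 G) : Lay 1 G := by
  obtain ⟨e⟩ := h
  obtain ⟨j⟩ := CO2.equiv_X2
  have := H15.finite_Co0
  exact Lay.congr (fun t ht => .inl (bot_of_charP (Co2.charP t ht))) (e.trans j.symm)

end Cfsg.Agent.LAY
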