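import Cfsg.Agent.LAY.Defs
import Cfsg.Agent.CONW.YTop
import Cfsg.Prelude.Def_Classification2

/-! Layers of the involution centralisers of `Co3`. -/

set_option autoImplicit false
set_option maxRecDepth 100000

namespace Cfsg.Agent.LAY

open Cfsg Subgroup

namespace Co3

open H14 CONW CONW.C3 CONW.Y

/-- an element of order `22` -/
def PW : ℕ := nat_lit 0x5d42d325e3c1420406518fccc941db811af7670855ae678825929f4e91956335426c0e9e849e600da66091d45b82b216ce16fb1074424bb2d60a2348a01862433bc086a5283a11104905cc67e2e9b44eed6dad5ceb84730cac5577445fab409b00c87f1e2bc92a6159c1a24c150a5586f343d8370c293f89e0b5f97d84e383a60ce2658964008818ba1421e4486134f21f2297cd06e20860f03ab890814590bdc8220095d8c51608d0a80a081f072b3678707a61899c61c4312865eabc46205489c7c8217aeb01a54cb016a0b606832e0e1401f392146ea77d34cee023b1105c74570d82ae53611dab066b9b858f35b960f61225be0f48002a581a6b5db61e87374a409a16250c89ccd6c88cb4876f045acd262c3c3a45823f15440243b0fa91548806b0d30068a641852e5fe0f47b29271245b75f6c7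
def PC : ℕ := nat_lit 0x1537564d36c3f118027a9085e683e0251e80283e4308916435083e43a705b030da959ac63f198869883aee0cc976878c8407fc28e0c71a308429a19b88b4da1289c746e5c3507ec827a15e8201241162391e9dd50327db2d2c623cb1166106b99cfac32e1b038a9348a46a380cb3928f115a90de5232ae42f022d94c08a32aac1b86101a9958e77d3ac267549114160c7bb014254072f1c247662b8229f480503aad451290c8188a9c02ca731acfe7118a4dd0e0029340c7811181221a390d9dc3087bbd5edf4cb3cba73413cc2a766ab8db700781a8785f5d340b0d95a415cb102ba0c82c55b12c9c376914516b77226d825e0b158502e55829ecfe6b289f09746c05401f442557a4626001e4232437a2709069d218bf24910f4be4f4211cec2c81d3a265a84810d13d98e243b7ec2cdae95503dd50e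
def Os : List ℕ := [nat_lit 0x20000000, nat_lit 0x100002000040000080000000000000000000000000001001408000100840000, nat_lit 0x100000000000000000000000000000000000008000000000000000000000, nat_lit 0x2, nat_lit 0x100000000000, nat_lit 0x2000000000000000000000000000000000000000000000000000000000, nat_lit 0x1]

noncomputable abbrev pp (e : ℕ) : ℕ := powP (nat_lit 9) (nat_lit 512) (nat_lit 276) PW e

theorem up : upI (nat_lit 9) (nat_lit 512) (nat_lit 276) kCL 0 ([pp 1, pp 7, pp 9].map fun X => (X, X)) [] Os = true := by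
  decide +kernel

noncomputable def wP : Equiv.Perm (Fin 276) := EE.perm PW

theorem inW : EE.InG K PW := chain_K.inG_of_sift (by decide +kernel) (by decide +kernel)

theorem pk_w (e : ℕ) : EE.pk (wP ^ e) = pp e := by rw [EE.pk_pow, wP, inW.pk_perm]

theorem ord_w : orderOf wP = 22 := by
  have h : ordN (nat_lit 9) (nat_lit 512) (nat_lit 276) (EE.pk wP) 22 = 22 := by
    rw [wP, inW.pk_perm]; decide +kernel
  rw [EE.orderOf_eq_ordN wP (fuel := 22) (by rw [h]; decide), h]

noncomputable def w : K := ⟨wP, inW.perm_mem⟩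

theorem ord_w' : orderOf w = 22 := (orderOf_coe w).symm.trans ord_w

theorem cen_w {y : K} (h : Commute w y) : orderOf y ∣ 22 := by
  have := EE.finite
  have h1 : zpowers wP = K ⊓ centralizer (zpowers wP : Set (Equiv.Perm (Fin 276))) :=
    eq_of_le_of_card_ge (le_inf (zpowers_le.2 w.2) (le_centralizer _)) (by
      rw [Nat.card_zpowers, ord_w]
      refine (chain_K.card_centralizer_le (EE.fixes_zero _) up fun X hX => ?_).trans (by decide +kernel)
      obtain ⟨e, -, rfl⟩ := List.mem_map.1 (show X ∈ [1, 7, 9].map pp from hX)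
      rw [← pk_w, EE.perm_pk]
      exact npow_mem_zpowers _ _)
  rw [← orderOf_coe, ← ord_w, ← Nat.card_zpowers wP]
  refine Subgroup.orderOf_dvd_natCard _ (h1.ge ⟨y.2, ?_⟩)
  rintro _ ⟨i, rfl⟩
  exact ((show Commute wP y.1 from congrArg Subtype.val h).zpow_left i).eq

theorem conj_x : IsConj (w ^ 11) (pY 1) := by
  obtain ⟨g, hg, e⟩ := chain_K.conj_of_conjOK (H := PC) (x := (pY 1).1) (y := wP ^ 11) (by
    rw [pk_w, ← ev_one pY 1, pk_pY]; decide +kernel)
  exact (isConj_iff.2 ⟨⟨g, hg⟩, Subtype.ext e⟩).symm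

theorem not_dvd : ¬ 23 ∣ Nat.card (centralizer {w ^ 11} : Subgroup K) := fun h => by
  have := EE.finite
  rw [← card_map_of_injective K.subtype_injective, card_eq_orbit_mul _ (EE.pt 29)] at h
  have hf : (wP ^ 11) (EE.pt 29) = EE.pt 29 := by
    rw [EE.apply_pt _ (by decide), pk_w]; exact congrArg _ (by decide +kernel)
  rcases (Nat.Prime.dvd_mul (by norm_num)).1 h with h | h
  · refine absurd (Nat.le_of_dvd ((Set.ncard_pos (Set.toFinite _)).2 ⟨EE.pt 29, ?_⟩) h) (not_le.2 ?_)
    · exact ⟨1, one_mem _, rfl⟩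
    refine lt_of_le_of_lt (Set.ncard_le_ncard (t := {a | (wP ^ 11) a = a}) ?_) ?_
    · rintro _ ⟨_, ⟨g, hg, rfl⟩, rfl⟩
      have e : g.1 * wP ^ 11 = wP ^ 11 * g.1 := congrArg Subtype.val (mem_centralizer_singleton_iff.1 hg)
      exact (DFunLike.congr_fun e (EE.pt 29)).symm.trans (congrArg g.1 hf)
    · rw [EE.ncard_fix, pk_w]; decide +kernel
  · have h2 := h.trans (card_dvd_of_le (inf_le_inf_right _ (map_subtype_le _)))
    exact absurd (h2.trans (EE.isChain_cons.1 chain_K).2.2.card.dvd) (by decide +kernel)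

theorem w_x : W 1 (centralizer {w ^ 11} : Subgroup K) := by
  have : Finite K := Nat.finite_of_card_ne_zero (by rw [card_K]; decide)
  refine w_of_big' (g := ⟨w ^ 2, mem_centralizer_singleton_iff.2 (pow_mul_comm ..)⟩) (p := 11) (N := 21555072000)
    (by norm_num) (by rw [← orderOf_coe, orderOf_pow' _ two_ne_zero, ord_w']; rfl) ?_ (by norm_num)
    (fun y h1 h2 h3 => ?_) fun r i h1 h2 h3 h4 h5 => ?_
  · exact ((Nat.Prime.coprime_iff_not_dvd (by norm_num)).2 not_dvd).symm.dvd_of_dvd_mul_left
      ((card_subgroup_dvd_card _).trans (by rw [card_K]))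
  · have c1 : Commute (w ^ 2) y.1 := congrArg Subtype.val h1
    have c2 : Commute (w ^ 11) y.1 := (mem_centralizer_singleton_iff.1 y.2).symm
    have c3 := (c1.pow_left 6).mul_left c2
    rw [← pow_mul, ← pow_add, ← pow_mod_orderOf, ord_w', pow_one] at c3
    have c4 := cen_w c3
    rw [orderOf_coe] at c4
    have := Nat.le_of_dvd (by decide) c4
    generalize orderOf y = m at *
    interval_cases m <;> first | rfl | omega | exact absurd h2 (by decide)
  · have a1 : r ∣ 2 ^ 10 * 3 ^ 7 * 5 ^ 3 * 7 * 11 := (dvd_pow_self r h4).trans h5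
    have a2 : r = 5 ∨ r = 7 := by
      simp only [h1.dvd_mul, or_assoc] at a1
      rcases a1 with a | a | a | a | a
      · have := Nat.le_of_dvd (by decide) (h1.dvd_of_dvd_pow a); omega
      · have := Nat.le_of_dvd (by decide) (h1.dvd_of_dvd_pow a); omega
      · exact .inl ((Nat.prime_dvd_prime_iff_eq h1 (by norm_num)).1 (h1.dvd_of_dvd_pow a))
      · exact .inr ((Nat.prime_dvd_prime_iff_eq h1 (by norm_num)).1 a)
      · exact absurd ((Nat.prime_dvd_prime_iff_eq h1 (by norm_num)).1 a) h3
    have a3 : i < 4 := by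
      by_contra! e
      have := (pow_dvd_pow r e).trans h5
      rcases a2 with rfl | rfl <;> exact absurd this (by norm_num)
    rcases a2 with rfl | rfl <;> interval_cases i <;> omega

theorem lay_K : Lay 1 K := by
  have : Finite K := Nat.finite_of_card_ne_zero (by rw [card_K]; decide)
  intro t ht
  rcases YT.cls_K (k := t) (by rw [← pow_two, ← ht, pow_orderOf_eq_one]) with e | e | e
  · rw [e, orderOf_one] at ht; omega
  · obtain ⟨L, -, h⟩ := exists_cf
    obtain ⟨-, ⟨j⟩, -⟩ := h.cover
    have := H97.simple_Sp6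
    rw [YT.pY_z] at e
    exact W.conj (.inr (LN.of_quot (ln_simple.congr j.symm))) e
  · exact w_x.conj (conj_x.trans e)

end Co3

theorem lay_Co3 {G : Type*} [Group G] [Finite G] (h : Spor.IsoCo3 G) : Lay 1 G := by
  obtain ⟨e⟩ := h
  obtain ⟨j⟩ := CONW.C3.equivK
  exact Co3.lay_K.congr (e.trans j)

end Cfsg.Agent.LAY
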