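import Cfsg.Agent.LAY.Defs
import Cfsg.Prelude.Def_Classification2
import Cfsg.Agent.CO1.SuzType
import Cfsg.Agent.S5383

/-! Project LAY: the sporadic Suzuki group. -/

set_option autoImplicit false

namespace Cfsg.Agent.LAY

open Cfsg Subgroup

namespace Suz33

open H58 H58.SuzP CO1.Suz

theorem cen7 {g y : Spor.Suz} (hg : orderOf g = 7) (c : Commute g y) : orderOf y ∣ 84 := by
  have := SuzP.finite
  have := S5383.p7
  obtain ⟨Q, _, h, ⟨e⟩⟩ := suzT
  obtain ⟨B, hB⟩ := (IsPGroup.of_card (p := 7) (n := 1) (G := zpowers g) ((Nat.card_zpowers _).trans hg)).exists_le_sylow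
  obtain ⟨⟨f⟩, -⟩ := S5383.result _ h.1 Q h.2.1 h.2.2.1 h.2.2.2.1 e h.2.2.2.2 B
  rw [eq_zpowers (by decide) hg (by rw [card_eq]; decide) B.isPGroup' (hB (mem_zpowers g))] at f
  have h1 := orderOf_dvd_natCard (centralizer (zpowers g : Set Spor.Suz)) (x := y) (by
    rintro _ ⟨i, rfl⟩; exact (c.zpow_left i).eq)
  rwa [Nat.card_congr f.toEquiv, Nat.card_prod, nat_card_alternatingGroup, Nat.card_eq_fintype_card,
    Nat.card_eq_fintype_card, Fintype.card_multiplicative, ZMod.card, Fintype.card_fin] at h1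

theorem primes {p : ℕ} (hp : p.Prime) (h5 : 5 ≤ p) (h : p ∣ 448345497600) : p = 5 ∨ p = 7 ∨ p = 11 ∨ p = 13 := by
  rw [show 448345497600 = 2 ^ 13 * (3 ^ 7 * (5 ^ 2 * (7 * (11 * 13)))) by norm_num] at h
  have k : ∀ {q n : ℕ}, q.Prime → p ∣ q ^ n → p = q := fun hq h =>
    (Nat.prime_dvd_prime_iff_eq hp hq).1 (hp.dvd_of_dvd_pow h)
  rcases (Nat.Prime.dvd_mul hp).1 h with h | h
  · have := k Nat.prime_two h; omega
  rcases (Nat.Prime.dvd_mul hp).1 h with h | h
  · have := k Nat.prime_three h; omega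
  rcases (Nat.Prime.dvd_mul hp).1 h with h | h
  · exact .inl (k Nat.prime_five h)
  rcases (Nat.Prime.dvd_mul hp).1 h with h | h
  · exact .inr (.inl (k (n := 1) (by decide) h))
  rcases (Nat.Prime.dvd_mul hp).1 h with h | h
  · exact .inr (.inr (.inl (k (n := 1) (by decide) h)))
  · exact .inr (.inr (.inr (k (n := 1) (by decide) h)))

theorem w_e : W 1 (centralizer {el 5} : Subgroup Spor.Suz) := by
  have := SuzP.finite
  have := S5383.p7
  have h0 := card_dvd_of_le L_cent_e
  rw [← L_eq, card_L] at h0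
  obtain ⟨g, hg⟩ := exists_prime_orderOf_dvd_card' 7 ((show 7 ∣ 20160 by decide).trans h0)
  refine w_of_big' (p := 7) (N := 448345497600) (by decide) hg (card_eq ▸ card_subgroup_dvd_card _) (by decide)
    (fun y c a b => ?_) fun r i hr h5 h7 i0 hd => ?_
  · have h1 := cen7 ((orderOf_coe g).trans hg) (congrArg Subtype.val c)
    rw [orderOf_coe] at h1
    have h2 := Nat.le_of_dvd (by decide) h1
    generalize orderOf y = n at *
    interval_cases n <;> first | rfl | (exfalso; revert a h1; decide)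
  · have k : ∀ j, ¬ r ^ j ∣ 448345497600 → i < j := fun j h => not_le.1 fun e => h ((pow_dvd_pow r e).trans hd)
    rcases primes hr h5 ((dvd_pow_self r i0).trans hd) with rfl | rfl | rfl | rfl
    · have := k 3 (by decide); interval_cases i <;> simp_all
    · exact absurd rfl h7
    · have := k 2 (by decide); interval_cases i <;> simp_all
    · have := k 2 (by decide); interval_cases i <;> simp_all

theorem lay : Lay 1 Spor.Suz :=
  have := SuzP.finite
  lay_of_classes {el 1, el 5} (fun t ht => (two_classes t ht).elim (fun h => ⟨_, .inl rfl, h.symm⟩)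
    fun h => ⟨_, .inr rfl, h.symm⟩) (by
    rintro _ (rfl | rfl)
    exacts [w_of_card (a := 13) (b := 4) Nat.prime_five (by rw [card_cent_a]; decide), w_e])

end Suz33

theorem lay_Suz {G : Type*} [Group G] [Finite G] (h : Spor.IsoSuz G) : Lay 1 G := by
  obtain ⟨e⟩ := h
  exact Suz33.lay.congr e

end Cfsg.Agent.LAY
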