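import Cfsg.Agent.LAY.Defs
import Cfsg.Agent.INVK.Cl2

/-! Project LAY: the classical groups in odd characteristic. -/

set_option autoImplicit false

namespace Cfsg.Agent.LAY

open Cfsg Subgroup Matrix INVK H68 H29 H98 QuadraticMap QuadraticAlgebra
open scoped commutatorElement

universe u

section
variable {A Γ : Type*} [Group A] [Group Γ] {n : ℕ}

/-- `LN n` for all involution centralisers -/
def LayN (n : ℕ) (G : Type*) [Group G] : Prop := ∀ t : G, orderOf t = 2 → LN n (centralizer {t} : Subgroup G)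

theorem LayN.lay (h : LayN n A) : Lay n A := fun t ht => .inr (h t ht)

theorem cl_ok {J : A →* Γ} (hJ : Function.Injective J) {T : Γ} {I : Subgroup Γ}
    (hr : ∀ g ∈ I, g * T = T * g ↔ g ∈ J.range) {P : Subgroup A} (hP : ∀ x, x ∈ P ↔ J x ∈ I)
    (h1 : LN n P) : LN n ↥(I ⊓ centralizer {T}) :=
  h1.congr (.ofBijective ((J.comp P.subtype).codRestrict (I ⊓ centralizer {T})
    fun x => ⟨(hP _).1 x.2, mem_centralizer_singleton_iff.2 ((hr _ ((hP _).1 x.2)).2 ⟨x, rfl⟩)⟩)
    ⟨fun a b h => Subtype.ext (hJ (congrArg Subtype.val h)), fun g => by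
      obtain ⟨x, hx⟩ := (hr _ g.2.1).1 (mem_centralizer_singleton_iff.1 g.2.2)
      exact ⟨⟨x, (hP _).2 (hx ▸ g.2.1)⟩, Subtype.ext hx⟩⟩)

/-- the centraliser of the image of `t` in `A / Z(A)` -/
theorem tr_cent {t : A} (h3 : t * t ∈ center A) : ∃ α : centralizer {t} →* centralizer {QuotientGroup.mk' (center A) t},
    Tr α := by
  let α : centralizer {t} →* centralizer {QuotientGroup.mk' (center A) t} :=
    ((QuotientGroup.mk' _).comp (Subgroup.subtype _)).codRestrict _ fun x =>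
      mem_cent.2 ((mem_cent.1 x.2).map _)
  have a1 : α.ker ≤ center _ := fun x hx => mem_center_iff.2 fun g => Subtype.ext
    (mem_center_iff.1 ((QuotientGroup.eq_one_iff _).1 (congrArg Subtype.val hx)) g)
  have a2 : ∀ c, c * c ∈ α.range := fun ⟨c, hc⟩ => by
    obtain ⟨c, rfl⟩ := QuotientGroup.mk'_surjective _ c
    have z : c * t * c⁻¹ * t⁻¹ ∈ center A := (QuotientGroup.eq_one_iff _).1 (by
      simpa [commutatorElement_def] using
        commutatorElement_eq_one_iff_commute.2 (mem_cent.1 hc).symm)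
    refine ⟨⟨c * c, mem_cent.2 (Commute.symm ?_)⟩, rfl⟩
    have e1 := mem_center_iff.1 z
    have e2 := mem_center_iff.1 h3 c
    generalize hz : c * t * c⁻¹ * t⁻¹ = w at e1
    have e3 : c * t = w * t * c := by rw [← hz]; group
    have e4 : w * w = 1 := by
      rw [← mul_assoc, e3, mul_assoc, e3, ← mul_assoc, ← mul_assoc, mul_assoc w t, e1, ← mul_assoc,
        mul_assoc _ t t, mul_left_inj] at e2
      exact mul_eq_right.1 e2
    change c * c * t = t * (c * c)
    rw [mul_assoc, e3, ← mul_assoc, ← mul_assoc, e1, mul_assoc w, e3, ← mul_assoc,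
      ← mul_assoc, e4, one_mul, mul_assoc]
  exact ⟨α, tr_comm a1 (comm_le_of_sq a2)⟩

theorem cl_of (I : Subgroup Γ) (j : A →* Γ) (hj : Function.Injective j) (h1 : ∀ x, j x ∈ I)
    (h2 : ⁅I, I⁆ ≤ j.range) (h : ∀ t : A, t * t ∈ center A → LN n ↥(I ⊓ centralizer {j t})) :
    LayN n (A ⧸ center A) := fun t ht => by
  obtain ⟨t, rfl⟩ := QuotientGroup.mk'_surjective _ t
  have h3 : t * t ∈ center A := (QuotientGroup.eq_one_iff _).1 (by
    rw [← pow_two, ← ht]; exact pow_orderOf_eq_one (QuotientGroup.mk' (center A) t))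
  obtain ⟨α, hα⟩ := tr_cent h3
  let β : centralizer {t} →* ↥(I ⊓ centralizer {j t}) :=
    (j.comp (Subgroup.subtype _)).codRestrict _ fun x => ⟨h1 _, mem_cent.2 ((mem_cent.1 x.2).map _)⟩
  have b1 : Function.Injective β := fun x y e => Subtype.ext (hj (congrArg Subtype.val e))
  have b2 : _root_.commutator _ ≤ β.range := commutator_le.2 fun a _ b _ => by
    obtain ⟨x, hx⟩ := h2 (commutator_mem_commutator a.2.1 b.2.1)
    refine ⟨⟨x, mem_cent.2 (hj ?_)⟩, Subtype.ext hx⟩
    rw [map_mul, map_mul, hx]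
    exact mem_cent.1 (⁅a, b⁆).2.2
  exact hα.ln_iff.1 ((tr_inj b1 b2).ln_iff.2 (h t h3))

theorem LayN.congr {B : Type*} [Group B] (h : LayN n A) (e : B ≃* A) : LayN n B := fun t ht =>
  (h (e t) (by rwa [MulEquiv.orderOf_eq])).congr (centEquiv e t).symm

end

variable {F : Type u} [Field F] {ι κ κ₁ κ₂ : Type} [Fintype ι] [DecidableEq ι] [Fintype κ] [DecidableEq κ]
  [Fintype κ₁] [DecidableEq κ₁] [Fintype κ₂] [DecidableEq κ₂] {f : (ι → F) → (ι → F) → F} {I : Subgroup (GL ι F)}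
  {I' : Subgroup (GL κ F)} {X : Type*} [Group X] {mat : X →* Matrix ι ι F} {n : ℕ} {σ : F ≃+* F} {ε μ : F}
  {T : GL ι F}

theorem cl_small (h : Fintype.card ι ≤ 1) (I : Subgroup (GL ι F)) : LN n I := by
  have := Fintype.card_le_one_iff_subsingleton.1 h
  have : Group.IsSolvable I := Group.isSolvable_of_comm fun a b => Subtype.ext (Units.ext (Matrix.ext fun i j => by
    simp [mul_apply, Subsingleton.elim j i, Finset.sum_eq_single i, Subsingleton.elim _ i, mul_comm]))
  exact ln_solv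

theorem cl_congr (H : LN n I') (φ : (ι → F) ≃ₗ[F] (κ → F)) (h : ∀ g, glConj φ g ∈ I' ↔ g ∈ I) : LN n I :=
  H.congr (subgroupEquivOfIff (glConj φ) I I' h).symm

theorem cl_mat (hi : Function.Injective mat) (h1 : ∀ s, mat.toHomUnits s ∈ I)
    (h2 : ⁅I, I⁆ ≤ mat.toHomUnits.range) (hl : LN n (X ⧸ center X)) : LN n I :=
  (tr_inj (f := mat.toHomUnits.codRestrict I h1) (fun _ _ e => hi (congrArg (fun x : I => x.1.1) e))
    (commutator_le.2 fun a _ b _ => (h2 (commutator_mem_commutator a.2 b.2)).imp fun _ e => Subtype.ext e)).ln_iff.1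
    hl.of_quot

theorem cl_dt (h : Dt mat I) (H : ∀ T ∈ I, ∀ c : F, T.1 * T.1 = c • 1 → LN n ↥(I ⊓ centralizer {T})) :
    LayN n (X ⧸ center X) := by
  refine cl_of I _ (fun a b e => h.inj (congrArg Units.val e)) h.mem h.comm fun t ht => ?_
  obtain ⟨c, hc⟩ := h.scalar ht
  exact H _ (h.mem t) c ((map_mul mat t t).symm.trans hc)

variable [Finite F]

theorem ln_psl (h2 : (2 : F) ≠ 0) {n : ℕ} (hn : 2 ≤ n) : LN 1 (ProjectiveSpecialLinearGroup (Fin n) F) := by
  have := Fintype.ofFinite F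
  rcases hn.eq_or_lt with rfl | hn
  · by_cases h : 4 ≤ Nat.card F
    · have := ProjectiveSpecialLinearGroup.rank_two_simple h
      exact ln_simple
    obtain ⟨k, hk⟩ := odd_card_of_two h2
    have := Fintype.one_lt_card (α := F)
    rw [Nat.card_eq_fintype_card] at h
    have := H85.isSolvable_perm_fin_four
    exact LN.congr ln_solv (S0251.result (F := F) (by omega)).some.symm
  · have := H9.psl_isSimpleGroup (ι := Fin n) (F := F) (by simp; omega)
    exact ln_simple

theorem ln_top (h2 : (2 : F) ≠ 0) : LN 1 (⊤ : Subgroup (GL ι F)) := by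
  by_cases h : Fintype.card ι ≤ 1
  · exact cl_small h _
  have hn : 2 ≤ Fintype.card ι := by omega
  have d := dt_sl (F := F) hn
  exact cl_congr (cl_mat d.inj d.mem d.comm (ln_psl h2 hn)) (.ofFinrankEq _ _ (by simp)) fun _ => Iff.rfl

theorem ln_sp (h2 : (2 : F) ≠ 0) (m : ℕ) : LN 1 (IG (sympForm m F)) := by
  have := Fintype.ofFinite F
  obtain _ | m := m
  · exact cl_small (by simp) _
  have h := dt_sp (F := F) (m := m + 1) (by omega)
  refine cl_mat h.inj h.mem h.comm ?_
  obtain _ | m := m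
  · refine ((tr_inj (f := (H29.spMat 1 F).toHomUnits.codRestrict ⊤ fun _ => mem_top _)
      (fun a b e => h.inj (congrArg (fun x => x.1.1) e)) fun g hg => ?_).ln_iff.2 (ln_top h2)).quot
    exact ⟨⟨g.1, (S0244.result _).2 (congrArg Units.val (Abelianization.commutator_subset_ker
      (GeneralLinearGroup.det.comp (Subgroup.subtype _)) hg))⟩, Subtype.ext (Units.ext rfl)⟩
  obtain ⟨k, hk⟩ := odd_card_of_two h2
  have := Fintype.one_lt_card (α := F)
  have := S0270.result (F := F) (m + 1 + 1) (by omega) fun _ => by omega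
  exact ln_simple

theorem ln_omega {Q : QuadraticForm F (ι → F)} (hQ : (polarBilin Q).Nondegenerate)
    (h2 : (2 : F) ≠ 0) (h3 : 3 ≤ Fintype.card ι) : LN 2 (POmega F Q) := by
  have := Fintype.ofFinite F
  by_cases h5 : 5 ≤ Fintype.card ι
  · have := pomega_simple hQ h5
    exact ln_simple.mono one_le_two
  by_cases h4 : Fintype.card ι = 3
  · obtain ⟨a, ψ, ha, H⟩ := H27.quad_equiv_odd hQ.1 (m := 1) (by simpa using h4)
    exact (((ln_psl h2 le_rfl).congr (S0298.result (odd_card_of_two h2)).some.symm).congr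
      (centerQuotEquiv (commutatorEquiv (oEquiv ψ ha H))).symm).mono one_le_two
  obtain ⟨b, hb⟩ := H27.exists_anisotropic_binary F
  rcases H27.quad_equiv_plus_or_minus hQ.1 (m := 2) (by simp; omega) hb with ⟨ψ, H⟩ | ⟨-, ψ, H⟩
  · refine (((ln_psl h2 le_rfl).prod (ln_psl h2 le_rfl)).congr (S0299.result ?_).some.symm).congr
      (centerQuotEquiv (commutatorEquiv (oEquiv ψ one_ne_zero fun v => by
        rw [one_mul]; exact H v))).symm
    obtain ⟨k, hk⟩ := odd_card_of_two h2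
    have := Fintype.one_lt_card (α := F)
    omega
  · have := H11.fact_of_aniso hb
    have := H11.finite_quadAlg 1 b
    have := Fintype.ofFinite (QuadraticAlgebra F (-b) 1)
    refine (((ln_psl (F := QuadraticAlgebra F (-b) 1) (fun e => h2 ?_) le_rfl).congr (S0300.result rfl
      (by rw [← Nat.card_eq_fintype_card, H11.card_quadAlg, Nat.card_eq_fintype_card]) 1 b
        hb).some.symm).congr (centerQuotEquiv (commutatorEquiv (oEquiv ψ one_ne_zero fun v => by
          rw [one_mul]; exact H v))).symm).mono one_le_two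
    exact (algebraMap F (QuadraticAlgebra F (-b) 1)).injective (by rw [map_ofNat, e, map_zero])

theorem ln_o_two {Q : QuadraticForm F (ι → F)} (hQ : (polarBilin Q).Nondegenerate)
    (h : Fintype.card ι = 2) : LN n (isometryGroup F Q) := by
  have := Fintype.ofFinite F
  have k : ∀ m, LN n (DihedralGroup m) := fun m => @ln_solv _ _ _ (H93.L2.dih_solvable m)
  obtain ⟨b, hb⟩ := H27.exists_anisotropic_binary F
  rcases H27.quad_equiv_plus_or_minus hQ.1 (m := 1) (by simpa) hb with ⟨ψ, H⟩ | ⟨-, ψ, H⟩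
  · exact (k _).congr ((oEquiv ψ one_ne_zero fun v => by rw [one_mul]; exact H v).trans
      (S0305.result rfl).some).symm
  · exact (k _).congr ((oEquiv ψ one_ne_zero fun v => by rw [one_mul]; exact H v).trans
      (S0306.result rfl 1 b hb).some).symm

omit [Finite F] in
theorem ln_gu [Fintype F] {q : ℕ} [hF : Fact (Fintype.card F = q ^ 2)] (h2 : (2 : F) ≠ 0) (n : ℕ) :
    LN 1 (GU n F q) := by
  by_cases h : n ≤ 1
  · exact cl_small (by simpa) _
  refine cl_mat suMat_inj (fun x => x.2) su_comm ?_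
  by_cases hn : 3 ≤ n
  · have := H10.psu_isSimpleGroup (F := F) (q := q) hn fun e => absurd (e.2 ▸ odd_q (q := q) h2 : Odd 2)
      (by decide)
    exact ln_simple
  obtain rfl : n = 2 := by omega
  have := Fintype.ofFinite (fixF (cjE F q))
  exact (ln_psl (two_ne_zero_of_map (fixF (cjE F q)).subtype h2) le_rfl).congr
    (centerQuotEquiv (S0281.result (K := fixF (cjE F q)) hF.out (Nat.pow_left_injective
    two_ne_zero (by
      simp only
      rw [← hF.out, ← Nat.card_eq_fintype_card, ← Nat.card_eq_fintype_card, card_eq_fixF_pow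
        (cjE F q), orderOf_invol cjE_ne_one H10.cj_cj]))).some).symm

theorem ln_sesq (h2 : (2 : F) ≠ 0) (hf : IsSesq σ ε f) (h1 : 1 ≤ n) (hn : σ = .refl F → ε = 1 → 2 ≤ n) :
    LN n (IG f) := by
  have := Fintype.ofFinite F
  by_cases hσ : σ = .refl F
  · subst hσ
    rcases hf.eps with rfl | rfl
    · let Q := (H99.bilL hf).toQuadraticMap
      have h1 : ∀ u v, polar Q u v = 2 * f u v := fun u v => by
        rw [LinearMap.BilinMap.polar_toQuadraticMap, two_mul]
        exact congrArg _ ((hf.herm _ _).trans (one_mul _))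
      have hQ : (polarBilin Q).Nondegenerate := H28.nondeg_of_left fun x h =>
        hf.eq_zero_of_left fun y => by simpa [h1, h2] using h y
      have h3 : IG f = IG (polar Q) := Subgroup.ext fun g => by
        simp only [mem_IG, h1, mul_right_inj' h2]
      rw [h3]
      by_cases h : Fintype.card ι ≤ 1
      · exact cl_small h _
      by_cases h4 : Fintype.card ι = 2
      · exact IG_polar h2 Q ▸ ln_o_two hQ h4
      have d := dt_om hQ h2 (by omega)
      exact (cl_mat d.inj d.mem d.comm (ln_omega hQ h2 (by omega))).mono (hn rfl rfl)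
    have ha : (H99.bilL hf).IsAlt := H9.alt_of_skew h2 hf
    obtain ⟨m, b, -⟩ := H3.exists_isSympBasis _ ha (H99.bilL_nd hf)
    obtain ⟨-, e, -, he, -⟩ := H67.exists_hom_sp (G := Unit) 1 (fun _ _ _ => rfl) (H99.bilL_nd hf) ha
      (fun _ _ _ => rfl) (m := m) (by simp [Module.finrank_eq_card_basis b, two_mul])
    exact (cl_congr (ln_sp h2 m) e (glConj_mem_IG e one_ne_zero fun u v => by
      rw [he, one_mul]; rfl)).mono h1
  have : Fact (Fintype.card F = Nat.card (fixF σ) ^ 2) :=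
    ⟨by rw [← Nat.card_eq_fintype_card, card_eq_fixF_pow σ, orderOf_invol hσ hf.invol]⟩
  generalize Nat.card (fixF σ) = q at this
  obtain rfl : σ = H10.sig F q := invol_eq_cjE (q := q) hσ hf.invol
  obtain ⟨o, h0, hω⟩ : ∃ o : F, o ≠ 0 ∧ H10.sig F q o = ε * o := by
    rcases hf.eps with rfl | rfl
    · exact ⟨1, one_ne_zero, by simp⟩
    obtain ⟨a, ha⟩ := H10.exists_cj_ne F q
    exact ⟨a - H10.sig F q a, sub_ne_zero.2 ha.symm, by rw [map_sub, hf.invol]; ring⟩
  have hh : IsSesq (H10.sig F q) 1 fun u v => o * f u v :=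
    ⟨hf.invol, .inl rfl, fun x y v => by rw [hf.add_left, mul_add],
      fun c x v => by rw [hf.smul_left]; ring, fun v w => by rw [hf.herm, map_mul, hω]; ring,
      fun v hv => by simpa [h0] using hf.nondeg v hv⟩
  obtain ⟨e, he⟩ := H99.herm_basis hh (H99.nd_top hh)
  refine (cl_congr (ln_gu (q := q) h2 _) (e.trans (LinearEquiv.ofTop _ rfl)).symm
    (glConj_mem_IG _ (inv_ne_zero h0) fun u v => ?_)).mono h1
  rw [← he]
  simp [h0]

variable {e : ((κ₁ → F) × (κ₂ → F)) ≃ₗ[F] (ι → F)} {J : GL κ₁ F × GL κ₂ F →* GL ι F}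

theorem cl_split (S : Sp T μ e J) {f₁ : (κ₁ → F) → (κ₁ → F) → F} {f₂ : (κ₂ → F) → (κ₂ → F) → F}
    (hf : ∀ u w u' w', f (e (u, w)) (e (u', w')) = f₁ u u' + f₂ w w') (l₁ : LN n (IG f₁))
    (l₂ : LN n (IG f₂)) : LN (n + n) ↥(IG f ⊓ centralizer {T}) := by
  refine cl_ok S.inj (fun g _ => S.r g) (P := (IG f₁).prod (IG f₂)) (fun x => ?_)
    ((l₁.prod l₂).congr (prodEquiv _ _).symm)
  rw [mem_IG, e.surjective.forall₂]
  simp only [Prod.forall, S.j, hf]
  exact ⟨fun h u w u' w' => congrArg₂ _ (h.1 u u') (h.2 w w'), fun h =>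
    ⟨fun u u' => by simpa using h u 0 u' 0, fun w w' => by simpa using h 0 w 0 w'⟩⟩

theorem cl_hyp (S : Sp T μ e J) (h2 : (2 : F) ≠ 0) (hf : IsSesq σ ε f) (hT : T ∈ IG f)
    (h1 : ∀ u u', f (e (u, 0)) (e (u', 0)) = 0) (h3 : ∀ w w', f (e (0, w)) (e (0, w')) = 0) :
    LN 1 ↥(IG f ⊓ centralizer {T}) := by
  have d : ∀ u w, e (u, w) = e (u, 0) + e (0, w) := fun u w => by rw [← map_add]; simp
  have i : ((IG f).comap J) ≃* (⊤ : Subgroup (GL κ₁ F)) := .ofBijective
    (((MonoidHom.fst _ _).comp (Subgroup.subtype _)).codRestrict ⊤ fun _ => mem_top _)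
    ⟨(injective_iff_map_eq_one _).2 fun x hx => ?_, fun a => ?_⟩
  · exact cl_ok S.inj (fun g _ => S.r g) (fun _ => Iff.rfl) ((ln_top h2).congr i.symm)
  · have h4 : x.1.1 = 1 := congrArg Subtype.val hx
    refine Subtype.ext (Prod.ext h4 (gl_ext Function.surjective_id fun w => ?_))
    refine (congrArg Prod.snd (e.injective (a₁ := (0, x.1.2.1 *ᵥ w)) (a₂ := (0, w)) (hf.ext_right
      (e.surjective.forall.2 fun ⟨u, w'⟩ => ?_)))).trans (one_mulVec w).symm
    have := mem_IG.1 x.2 (e (u, 0)) (e (0, w))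
    rw [S.j, S.j, h4] at this
    rw [d u, hf.add_left, hf.add_left, h3, h3]
    simpa using this
  obtain ⟨b, hb⟩ := (S.r ⟨adj σ f (J (a, 1)).1, adj σ f (J (a, 1))⁻¹.1,
    by rw [← hf.adj_mul, Units.inv_mul, hf.adj_one], by rw [← hf.adj_mul, Units.mul_inv, hf.adj_one]⟩).1
    (gl_ext Function.surjective_id fun v => hf.ext_right fun u => by
      obtain ⟨u, rfl⟩ := mulVec_surjective_iff_isUnit.2 T.isUnit u
      simp only [Units.val_mul, ← mulVec_mulVec, id]
      rw [← hf.adj_spec, mem_IG.1 hT, ← hf.adj_spec, comm_vec ((S.r _).2 ⟨_, rfl⟩), mem_IG.1 hT])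
  have h4 : ∀ u w, f (e (a.1.1 *ᵥ u, 0)) (e (0, b.2⁻¹.1 *ᵥ w)) = f (e (u, 0)) (e (0, w)) :=
    fun u w => by
      have := hf.adj_spec (J (a, 1)).1 (e (u, 0)) (e (0, b.2⁻¹.1 *ᵥ w))
      rw [← show (J b).1 = adj σ f _ from congrArg Units.val hb, S.j, S.j] at this
      simpa using this
  refine ⟨⟨(a, b.2⁻¹), mem_IG.2 (e.surjective.forall₂.2 fun ⟨u, w⟩ ⟨u', w'⟩ => ?_)⟩, rfl⟩
  rw [S.j, S.j, d u, d u', d (_ *ᵥ u), d (_ *ᵥ u')]
  simp only [hf.add_left, hf.add_right, h1, h3, h4]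
  rw [hf.herm (e (0, _)), h4, ← hf.herm]

theorem cl_top (h2 : (2 : F) ≠ 0) [Nonempty ι] {c : F} (hT : T.1 * T.1 = c • 1) :
    LN 2 ↥(⊤ ⊓ centralizer {T}) := by
  have i : ∀ {κ : Type} [Fintype κ] [DecidableEq κ], IG (fun _ _ : κ → F => 0) = ⊤ :=
    eq_top_iff.2 fun _ _ _ _ => rfl
  by_cases h : IsSquare c
  · obtain ⟨μ, rfl⟩ := h
    obtain ⟨k, l, e, J, S⟩ := exists_sp h2 hT fun h => (T * T).ne_zero (by simp [hT, h])
    have n : ∀ k, LN 1 (IG fun _ _ : Fin k → F => 0) := fun k => by rw [i]; exact ln_top h2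
    rw [← i]
    exact cl_split S (by simp) (n k) (n l)
  have : Fact (∀ r : F, r ^ 2 ≠ c + 0 * r) := ⟨fun r e => h ⟨r, by linear_combination -e⟩⟩
  have : Finite (QuadraticAlgebra F c 0) := Finite.of_equiv _ (equivProd c 0).symm
  obtain ⟨k, e, J, j1, -, -, j2⟩ := exists_ex hT
  exact (cl_ok j1 (fun g _ => j2 g) (P := ⊤) (fun _ => Iff.rfl) (ln_top (two_ext h2))).mono one_le_two

end Cfsg.Agent.LAY
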